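import Mathlib

/-! Laurent series over a henselian local ring: twisting by roots of unity, idempotents, and points of finite
covers split by `t ↦ t ^ d`. -/

set_option autoImplicit false
universe u v

open IsLocalRing CategoryTheory CategoryTheory.Limits AlgebraicGeometry

namespace Groth.Agent.LaurentSplitH7

variable {R : Type u} [CommRing R]

/-- The substitution `t ↦ ζ t` on Laurent series. -/
noncomputable def twist (ζ : Rˣ) : LaurentSeries R →+* LaurentSeries R where
  toFun x := ⟨fun i => ((ζ ^ i : Rˣ) : R) * x.coeff i,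
    x.isPWO_support.mono fun i hi => fun h => hi (by simp [h])⟩
  map_one' := by
    ext i
    change ((ζ ^ i : Rˣ) : R) * (1 : LaurentSeries R).coeff i = _
    rcases eq_or_ne i 0 with rfl | hi
    · simp
    · simp [HahnSeries.coeff_one, hi]
  map_zero' := by ext i; simp
  map_add' x y := by ext i; simp [mul_add]
  map_mul' x y := by
    ext i
    change ((ζ ^ i : Rˣ) : R) * (x * y).coeff i = _
    rw [HahnSeries.coeff_mul, HahnSeries.coeff_mul, Finset.mul_sum]
    refine Finset.sum_congr ?_ fun ij hij => ?_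
    · ext ij
      simp only [Finset.mem_antidiagonal, HahnSeries.mem_support, ne_eq, Units.mul_right_eq_zero]
    · simp only [Finset.mem_antidiagonal] at hij
      have h : ij.1 + ij.2 = i := hij.2.2
      change _ = ((ζ ^ ij.1 : Rˣ) : R) * x.coeff ij.1 * (((ζ ^ ij.2 : Rˣ) : R) * y.coeff ij.2)
      rw [← h, zpow_add, Units.val_mul]
      ring

theorem coeff_twist (ζ : Rˣ) (x : LaurentSeries R) (i : ℤ) :
    (twist ζ x).coeff i = ((ζ ^ i : Rˣ) : R) * x.coeff i := rfl

/-- Coefficientwise application of a ring homomorphism. -/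
noncomputable def mapC {S : Type v} [CommRing S] (f : R →+* S) : LaurentSeries R →+* LaurentSeries S where
  toFun x := x.map f
  map_one' := by
    ext i
    rcases eq_or_ne i 0 with rfl | hi
    · simp
    · simp [HahnSeries.coeff_one, hi]
  map_zero' := by ext i; simp
  map_add' x y := by ext i; simp
  map_mul' x y := HahnSeries.map_mul (f : R →ₙ+* S)

theorem coeff_mapC {S : Type v} [CommRing S] (f : R →+* S) (x : LaurentSeries R) (i : ℤ) :
    (mapC f x).coeff i = f (x.coeff i) := rfl

theorem twist_mapC {S : Type v} [CommRing S] (f : R →+* S) (ζ : Rˣ) (x : LaurentSeries R) :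
    mapC f (twist ζ x) = twist (Units.map f.toMonoidHom ζ) (mapC f x) := by
  ext i
  simp [coeff_mapC, coeff_twist, ← map_zpow]

theorem mapC_ofPowerSeries {S : Type v} [CommRing S] (f : R →+* S) (P : PowerSeries R) :
    mapC f (HahnSeries.ofPowerSeries ℤ R P) = HahnSeries.ofPowerSeries ℤ S (PowerSeries.map f P) := by
  ext i
  rw [coeff_mapC]
  rcases lt_or_ge i 0 with hi | hi
  · rw [HahnSeries.ofPowerSeries_apply, HahnSeries.ofPowerSeries_apply, HahnSeries.embDomain_of_notMem_range,
      HahnSeries.embDomain_of_notMem_range, map_zero]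
    all_goals rintro ⟨n, rfl⟩; exact absurd hi (not_lt.2 (Int.natCast_nonneg n))
  · obtain ⟨n, rfl⟩ := Int.eq_ofNat_of_zero_le hi
    rw [HahnSeries.ofPowerSeries_apply_coeff, HahnSeries.ofPowerSeries_apply_coeff, PowerSeries.coeff_map]

/-- A ring homomorphism of Laurent series which is coefficientwise on power series is coefficientwise. -/
theorem eq_mapC {S : Type v} [CommRing S] (f : R →+* S) (ρ : LaurentSeries R →+* LaurentSeries S)
    (h : ρ.comp (HahnSeries.ofPowerSeries ℤ R) = (HahnSeries.ofPowerSeries ℤ S).comp (PowerSeries.map f)) :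
    ρ = mapC f :=
  IsLocalization.ringHom_ext (Submonoid.powers (PowerSeries.X : PowerSeries R)) (RingHom.ext fun P =>
    (RingHom.congr_fun h P).trans (mapC_ofPowerSeries f P).symm)

variable (d : ℕ) (hinj : Function.Injective (AddMonoidHom.mulLeft (d : ℤ)))
  (hmono : ∀ g g' : ℤ, AddMonoidHom.mulLeft (d : ℤ) g ≤ AddMonoidHom.mulLeft (d : ℤ) g' ↔ g ≤ g')

/-- The substitution `t ↦ t ^ d`. -/
noncomputable abbrev subD (R : Type u) [CommRing R] : LaurentSeries R →+* LaurentSeries R :=
  HahnSeries.embDomainRingHom (R := R) (AddMonoidHom.mulLeft (d : ℤ)) hinj hmono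

theorem coeff_subD (x : LaurentSeries R) (i : ℤ) : (subD d hinj hmono R x).coeff ((d : ℤ) * i) = x.coeff i :=
  HahnSeries.embDomain_mk_coeff hinj (fun _ _ => hmono _ _)

theorem coeff_subD_of_not_dvd (x : LaurentSeries R) (i : ℤ) (hi : ¬ (d : ℤ) ∣ i) :
    (subD d hinj hmono R x).coeff i = 0 :=
  HahnSeries.embDomain_of_notMem_range fun ⟨j, hj⟩ => hi ⟨j, hj.symm⟩

theorem subD_injective : Function.Injective (subD d hinj hmono R) := HahnSeries.embDomain_injective

theorem mapC_subD {S : Type u} [CommRing S] (f : R →+* S) (x : LaurentSeries R) :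
    mapC f (subD d hinj hmono R x) = subD d hinj hmono S (mapC f x) := by
  ext i
  by_cases hi : (d : ℤ) ∣ i
  · obtain ⟨j, rfl⟩ := hi
    rw [coeff_mapC, coeff_subD, coeff_subD, coeff_mapC]
  · rw [coeff_mapC, coeff_subD_of_not_dvd d hinj hmono _ _ hi, coeff_subD_of_not_dvd d hinj hmono _ _ hi, map_zero]

theorem twist_subD (ζ : Rˣ) (hζ : ζ ^ d = 1) (x : LaurentSeries R) :
    twist ζ (subD d hinj hmono R x) = subD d hinj hmono R x := by
  ext i
  by_cases hi : (d : ℤ) ∣ i
  · obtain ⟨j, rfl⟩ := hi
    rw [coeff_twist, zpow_mul, zpow_natCast, hζ, one_zpow, Units.val_one, one_mul]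
  · rw [coeff_twist, coeff_subD_of_not_dvd d hinj hmono _ _ hi, mul_zero]

/-- Invariant series are in the image of `t ↦ t ^ d`. -/
theorem exists_subD_eq (hd : 0 < d) (ζ : Rˣ) (hprim : ∀ i : ℤ, ¬ (d : ℤ) ∣ i → IsUnit (((ζ ^ i : Rˣ) : R) - 1))
    (x : LaurentSeries R) (hx : twist ζ x = x) : ∃ y, subD d hinj hmono R y = x := by
  refine ⟨HahnSeries.ofSuppBddBelow (fun i => x.coeff ((d : ℤ) * i))
    (HahnSeries.forallLTEqZero_supp_BddBelow _ (min x.order 0) fun m hm => HahnSeries.coeff_eq_zero_of_lt_order ?_), ?_⟩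
  · have h1 : m < 0 := lt_of_lt_of_le hm (min_le_right _ _)
    have h2 : m < x.order := lt_of_lt_of_le hm (min_le_left _ _)
    have h3 : (1 : ℤ) ≤ (d : ℤ) := by exact_mod_cast hd
    nlinarith
  · ext i
    by_cases hi : (d : ℤ) ∣ i
    · obtain ⟨j, rfl⟩ := hi
      rw [coeff_subD]; rfl
    · rw [coeff_subD_of_not_dvd d hinj hmono _ _ hi]
      have h := congrArg (fun z : LaurentSeries R => z.coeff i) hx
      simp only [coeff_twist] at h
      exact ((hprim i hi).mul_right_eq_zero.1 (by rw [sub_mul, one_mul, h, sub_self])).symm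

/-- A primitive root of unity of a strictly henselian local ring. -/
theorem exists_root_of_unity [HenselianLocalRing R] [IsSepClosed (ResidueField R)] (hd : 0 < d) (hdu : IsUnit (d : R)) :
    ∃ ζ : Rˣ, ζ ^ d = 1 ∧ ∀ i : ℤ, ¬ (d : ℤ) ∣ i → IsUnit (((ζ ^ i : Rˣ) : R) - 1) := by
  haveI : NeZero (d : ResidueField R) := ⟨by
    rw [← map_natCast (residue R)]; exact (hdu.map (residue R)).ne_zero⟩
  obtain ⟨z, hz⟩ := IsSepClosed.exists_root (Polynomial.cyclotomic d (ResidueField R))
    (Polynomial.degree_cyclotomic_pos d _ hd).ne' (Polynomial.separable_cyclotomic d _)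
  have hzp : IsPrimitiveRoot z d := Polynomial.isRoot_cyclotomic_iff.1 hz
  obtain ⟨a₀, ha₀⟩ := residue_surjective z
  have h1 : (Polynomial.X ^ d - 1 : Polynomial R).eval a₀ ∈ maximalIdeal R := by
    rw [← residue_eq_zero_iff]
    simp [ha₀, hzp.pow_eq_one]
  have h2 : IsUnit ((Polynomial.X ^ d - 1 : Polynomial R).derivative.eval a₀) := by
    have hu : IsUnit a₀ := by
      by_contra h
      have : residue R a₀ = 0 := (residue_eq_zero_iff a₀).2 h
      exact hzp.ne_zero hd.ne' (ha₀ ▸ this)
    simpa [Polynomial.derivative_X_pow] using hdu.mul (hu.pow (d - 1))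
  obtain ⟨a, ha, ha'⟩ := HenselianLocalRing.is_henselian _ (Polynomial.monic_X_pow_sub_C (1 : R) hd.ne') a₀
    (by simpa using h1) (by simpa using h2)
  have had : a ^ d = 1 := by simpa [sub_eq_zero] using ha
  have har : residue R a = z := by
    rw [← ha₀, ← sub_eq_zero, ← map_sub, residue_eq_zero_iff]; exact ha'
  have hau : IsUnit a := IsUnit.of_pow_eq_one had hd.ne'
  refine ⟨hau.unit, Units.ext (by simpa using had), fun i hi => ?_⟩
  by_contra h
  have h0 : residue R (((hau.unit ^ i : Rˣ) : R) - 1) = 0 := (residue_eq_zero_iff _).2 h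
  rw [map_sub, map_one, sub_eq_zero] at h0
  have h3 : (Units.map (residue R).toMonoidHom hau.unit) ^ i = 1 := by
    rw [← map_zpow]; exact Units.ext h0
  have hu' : IsPrimitiveRoot (Units.map (residue R).toMonoidHom hau.unit) d :=
    IsPrimitiveRoot.coe_units_iff.1 (by simpa [har] using hzp)
  exact hi ((hu'.zpow_eq_one_iff_dvd i).1 h3)

theorem mem_of_coeff_mem_mul {I J : Ideal R} {x y : LaurentSeries R} (hx : ∀ i, x.coeff i ∈ I) (hy : ∀ i, y.coeff i ∈ J)
    (i : ℤ) : (x * y).coeff i ∈ I * J := by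
  rw [HahnSeries.coeff_mul]
  exact Ideal.sum_mem _ fun ij _ => Ideal.mul_mem_mul (hx _) (hy _)

/-- Laurent series over a local ring have no nontrivial idempotents. -/
theorem eq_zero_or_one_of_idem [IsLocalRing R] (e : LaurentSeries R) (he : e * e = e) : e = 0 ∨ e = 1 := by
  wlog h0 : e.coeff 0 ∈ maximalIdeal R generalizing e
  · have h1 : (1 - e).coeff 0 ∈ maximalIdeal R := by
      by_contra h1
      -- reduce modulo the maximal ideal
      have hk : mapC (residue R) e * mapC (residue R) e = mapC (residue R) e := by rw [← map_mul, he]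
      rcases IsIdempotentElem.iff_eq_zero_or_one.1 hk with hk | hk
      · exact h0 ((residue_eq_zero_iff _).1 (by rw [← coeff_mapC, hk, HahnSeries.coeff_zero]))
      · refine h1 ((residue_eq_zero_iff _).1 ?_)
        rw [← coeff_mapC, map_sub, map_one, hk, sub_self, HahnSeries.coeff_zero]
    rcases this (1 - e) (by linear_combination he) h1 with h | h
    · exact Or.inr (sub_eq_zero.1 h).symm
    · exact Or.inl (by simpa using h)
  left
  classical
  -- every coefficient of index at most zero is nilpotent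
  have hnil : ∀ i ≤ 0, IsNilpotent (e.coeff i) := fun i hi => by
    rw [nilpotent_iff_mem_prime]
    intro P hP
    have hk : mapC (Ideal.Quotient.mk P) e * mapC (Ideal.Quotient.mk P) e = mapC (Ideal.Quotient.mk P) e := by
      rw [← map_mul, he]
    rcases IsIdempotentElem.iff_eq_zero_or_one.1 hk with hk | hk
    · rw [← Ideal.Quotient.eq_zero_iff_mem, ← coeff_mapC, hk, HahnSeries.coeff_zero]
    · exfalso
      have h := congrArg (fun z : LaurentSeries (R ⧸ P) => z.coeff 0) hk
      simp only [coeff_mapC, HahnSeries.coeff_one, if_true] at h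
      have h' : e.coeff 0 - 1 ∈ P := by rw [← Ideal.Quotient.eq_zero_iff_mem, map_sub, map_one, h, sub_self]
      exact (maximalIdeal.isMaximal R).ne_top ((Ideal.eq_top_iff_one _).2 (by
        simpa using sub_mem h0 (le_maximalIdeal hP.ne_top h')))
  -- they generate a nilpotent ideal
  let I : Ideal R := Ideal.span ↑((Finset.Icc (min e.order 0) 0).image e.coeff)
  have hI : ∀ i ≤ 0, e.coeff i ∈ I := fun i hi => by
    rcases lt_or_ge i (min e.order 0) with h | h
    · rw [HahnSeries.coeff_eq_zero_of_lt_order (lt_of_lt_of_le h (min_le_left _ _))]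
      exact zero_mem _
    · exact Ideal.subset_span (Finset.mem_coe.2 (Finset.mem_image.2 ⟨i, Finset.mem_Icc.2 ⟨h, hi⟩, rfl⟩))
  obtain ⟨n, hn⟩ : IsNilpotent I := by
    refine (Ideal.FG.isNilpotent_iff_le_nilradical ⟨_, rfl⟩).2 (Ideal.span_le.2 fun x hx => ?_)
    obtain ⟨i, hi, rfl⟩ := Finset.mem_image.1 (Finset.mem_coe.1 hx)
    exact hnil i (Finset.mem_Icc.1 hi).2
  -- the reduction is an idempotent of positive order
  have hall : ∀ i, e.coeff i ∈ I := by
    have hk : mapC (Ideal.Quotient.mk I) e * mapC (Ideal.Quotient.mk I) e = mapC (Ideal.Quotient.mk I) e := by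
      rw [← map_mul, he]
    set f := mapC (Ideal.Quotient.mk I) e with hf
    have hpos : ∀ i ≤ 0, f.coeff i = 0 := fun i hi => Ideal.Quotient.eq_zero_iff_mem.2 (hI i hi)
    have key : ∀ m : ℕ, ∀ i ≤ (m : ℤ), f.coeff i = 0 := by
      intro m
      induction m with
      | zero => exact fun i hi => hpos i (by simpa using hi)
      | succ m ih =>
        intro i hi
        rcases eq_or_lt_of_le hi with hi | hi
        · rw [← hk, HahnSeries.coeff_mul]
          refine Finset.sum_eq_zero fun ij hij => ?_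
          simp only [Finset.mem_antidiagonal] at hij
          have h : ij.1 + ij.2 = i := hij.2.2
          rcases le_or_gt ij.1 (m : ℤ) with h' | h'
          · rw [ih _ h', zero_mul]
          · rw [ih ij.2 (by push_cast at hi; omega), mul_zero]
        · exact ih i (by push_cast at hi; omega)
    exact fun i => Ideal.Quotient.eq_zero_iff_mem.1 (key i.toNat i (Int.self_le_toNat i))
  have hpow : ∀ m : ℕ, ∀ i, (e ^ (m + 1)).coeff i ∈ I ^ (m + 1) := by
    intro m
    induction m with
    | zero => simpa using hall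
    | succ m ih => intro i; rw [pow_succ e, pow_succ I]; exact mem_of_coeff_mem_mul ih hall i
  ext i
  have h := hpow n i
  rw [IsIdempotentElem.pow_succ_eq n he, pow_succ, hn, Ideal.zero_eq_bot, Ideal.bot_mul, Ideal.mem_bot] at h
  simpa using h

/-- Sections of a trivial finite cover over a ring without nontrivial idempotents. -/
theorem exists_eq_ι {A B : Type u} [CommRing A] [CommRing B] [Nontrivial B] (hB : ∀ e : B, e * e = e → e = 0 ∨ e = 1)
    {n : ℕ} (a : A →+* B) (v : Spec (CommRingCat.of B) ⟶ ∐ fun _ : Fin n => Spec (CommRingCat.of A))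
    (hv : v ≫ Sigma.desc (fun _ : Fin n => 𝟙 (Spec (CommRingCat.of A))) = Spec.map (CommRingCat.ofHom a)) :
    ∃ i, v = Spec.map (CommRingCat.ofHom a) ≫ Sigma.ι (fun _ : Fin n => Spec (CommRingCat.of A)) i := by
  classical
  let F : ULift.{u} (Fin n) → CommRingCat.{u} := fun _ => CommRingCat.of A
  let w : (∐ fun _ : Fin n => Spec (CommRingCat.of A)) ⟶ ∐ fun i => Spec (F i) :=
    Sigma.desc fun i => Sigma.ι (fun i => Spec (F i)) (ULift.up i)
  let w' : (∐ fun i => Spec (F i)) ⟶ ∐ fun _ : Fin n => Spec (CommRingCat.of A) :=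
    Sigma.desc fun i => Sigma.ι (fun _ : Fin n => Spec (CommRingCat.of A)) i.down
  have hww : w ≫ w' = 𝟙 _ := Sigma.hom_ext _ _ fun i => by simp [w, w']
  let u := Spec.preimage (v ≫ w ≫ sigmaSpec F)
  have hu : Spec.map u = v ≫ w ≫ sigmaSpec F := Spec.map_preimage _
  let c : A →+* ((i : ULift.{u} (Fin n)) → F i) := RingHom.pi fun _ => RingHom.id A
  have hc : w ≫ sigmaSpec F ≫ Spec.map (CommRingCat.ofHom c) =
      Sigma.desc (fun _ : Fin n => 𝟙 (Spec (CommRingCat.of A))) := by
    refine Sigma.hom_ext _ _ fun i => ?_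
    simp only [w, Sigma.ι_desc_assoc, ι_sigmaSpec_assoc, Sigma.ι_desc]
    rw [← Spec.map_comp, ← Spec.map_id]
    rfl
  have huc : ∀ x, u.hom (c x) = a x := fun x => by
    have : CommRingCat.ofHom c ≫ u = CommRingCat.ofHom a := Spec.map_injective (by
      rw [Spec.map_comp, hu, Category.assoc, Category.assoc, hc, hv])
    exact congrArg (fun f => f.hom x) this
  obtain ⟨i, hi⟩ : ∃ i, u.hom (Pi.single i 1) = 1 := by
    by_contra hne
    push Not at hne
    have h0 : ∀ i, u.hom (Pi.single i 1) = 0 := fun i =>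
      (hB _ (by rw [← map_mul, ← Pi.single_mul, one_mul])).resolve_right (hne i)
    have h1 : (1 : (i : ULift.{u} (Fin n)) → F i) = ∑ i, Pi.single i 1 := (Finset.univ_sum_single _).symm
    have h2 := congrArg u.hom h1
    rw [map_one, map_sum, Finset.sum_eq_zero fun i _ => h0 i] at h2
    exact one_ne_zero h2
  refine ⟨i.down, ?_⟩
  have hu' : u = CommRingCat.ofHom (Pi.evalRingHom (fun i => F i) i) ≫ CommRingCat.ofHom a := by
    refine CommRingCat.hom_ext (RingHom.ext fun x => ?_)
    show u.hom x = a (x i)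
    have hx : x * Pi.single i 1 = c (x i) * Pi.single i 1 := by
      ext j
      rcases eq_or_ne j i with rfl | hj
      · simp [c]
      · simp [hj]
    calc u.hom x = u.hom (x * Pi.single i 1) := by rw [map_mul, hi, mul_one]
      _ = u.hom (c (x i) * Pi.single i 1) := by rw [hx]
      _ = a (x i) := by rw [map_mul, hi, mul_one, huc]
  have hvw : v ≫ w = Spec.map (CommRingCat.ofHom a) ≫ Sigma.ι (fun i => Spec (F i)) i := by
    rw [← cancel_mono (sigmaSpec F), Category.assoc, ← hu, hu', Spec.map_comp, Category.assoc, ι_sigmaSpec]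
  calc v = (v ≫ w) ≫ w' := by rw [Category.assoc, hww, Category.comp_id]
    _ = _ := by rw [hvw, Category.assoc]; simp [w']

/-- Morphisms to an affine scheme are detected after an injective ring homomorphism. -/
theorem eq_of_injective {A B : Type u} [CommRing A] [CommRing B] {X : Scheme.{u}} [IsAffine X] (f : A →+* B)
    (hf : Function.Injective f) (a b : Spec (CommRingCat.of A) ⟶ X)
    (h : Spec.map (CommRingCat.ofHom f) ≫ a = Spec.map (CommRingCat.ofHom f) ≫ b) : a = b := by
  rw [← cancel_mono X.isoSpec.hom]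
  have h' := congrArg (fun g => g ≫ X.isoSpec.hom) h
  simp only [Category.assoc] at h'
  rw [← Spec.map_preimage (a ≫ X.isoSpec.hom), ← Spec.map_preimage (b ≫ X.isoSpec.hom)] at h' ⊢
  rw [← Spec.map_comp, ← Spec.map_comp] at h'
  congr 1
  ext x
  exact hf (congrArg (fun g => g.hom x) (Spec.map_injective h'))

/-- A morphism to an affine scheme whose values lie in a subring factors through it. -/
theorem exists_fac {A B : Type u} [CommRing A] [CommRing B] {X : Scheme.{u}} [IsAffine X] (f : A →+* B)
    (hf : Function.Injective f) (σ : B →+* B) (hσ : ∀ x, σ x = x → ∃ y, f y = x)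
    (h : Spec (CommRingCat.of B) ⟶ X) (hh : Spec.map (CommRingCat.ofHom σ) ≫ h = h) :
    ∃ s : Spec (CommRingCat.of A) ⟶ X, Spec.map (CommRingCat.ofHom f) ≫ s = h := by
  let η := Spec.preimage (h ≫ X.isoSpec.hom)
  have hη : Spec.map η = h ≫ X.isoSpec.hom := Spec.map_preimage _
  have hfix : η ≫ CommRingCat.ofHom σ = η := Spec.map_injective (by
    rw [Spec.map_comp, hη, ← Category.assoc, hh])
  have hmem : ∀ x, ∃ y, f y = η.hom x := fun x => hσ _ (congrArg (fun g => g.hom x) hfix)
  choose g hg using hmem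
  let g' : Γ(X, ⊤) →+* A :=
    { toFun := g
      map_one' := hf (by rw [hg, map_one, map_one])
      map_mul' := fun x y => hf (by rw [hg, map_mul, map_mul, hg, hg])
      map_zero' := hf (by rw [hg, map_zero, map_zero])
      map_add' := fun x y => hf (by rw [hg, map_add, map_add, hg, hg]) }
  refine ⟨Spec.map (CommRingCat.ofHom g') ≫ X.isoSpec.inv, ?_⟩
  rw [← Category.assoc, ← Spec.map_comp, show CommRingCat.ofHom g' ≫ CommRingCat.ofHom f = η from
    CommRingCat.hom_ext (RingHom.ext hg), hη, Category.assoc, Iso.hom_inv_id, Category.comp_id]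

end Groth.Agent.LaurentSplitH7
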